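import Cfsg.Agent.GH.MTwAut
import Cfsg.Agent.OddHalf.D9.M12Glue

/-!
# 2.M12: Sylow arguments in the model on 48 points, classes of involutions and of square roots of `z`
-/

set_option autoImplicit false
set_option maxRecDepth 100000

open Subgroup

namespace Cfsg.Agent.OddHalf.D9.TwoM12M

open Cfsg.Agent.CoThreeStd.MTwelve (H wd wd_nil wd_cons inv_class)
open Cfsg.Agent.GH.MTwBound Cfsg.Agent.GH.MTwModel Cfsg.Agent.GH.MTwSyl Cfsg.Agent.GH.MTwFacts
  Cfsg.Agent.GH.MTwCover Cfsg.Agent.GH.MTwPsi Cfsg.Agent.GH.MTwCenter Cfsg.Agent.GH.MTwAut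
open Cfsg.Agent.GH.MTwCode (Pm)

variable {X : Type*} [Group X] {π : X →* H} {z : X} {ψ : X →* Pm} {a b : X}

/-- words in the model -/
theorem psi_ew (hM : Model π z ψ a b) (w : List ℕ) : ψ (ew a b z w) = ew A B Z w := by
  rw [map_ew, hM.ψa, hM.ψb, hM.ψz]

/-- equality of words -/
theorem ewX_eq (hM : Model π z ψ a b) {u v : List ℕ} (h : Nat.beq (wc u) (wc v) = true) :
    ew a b z u = ew a b z v := by
  apply hM.inj
  rw [psi_ew hM, psi_ew hM]
  exact ew_eq h

theorem ew_nil' (a b z : X) : ew a b z [] = 1 := rfl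

theorem T_le (hM : Model π z ψ a b) : T ≤ ψ.range := by
  show closure {G0, G1, G2} ≤ _
  rw [closure_le]
  rintro x (rfl | rfl | rfl)
  · exact ⟨ew a b z w0, by rw [psi_ew hM, G0_eq]⟩
  · exact ⟨ew a b z w1, by rw [psi_ew hM, G1_eq]⟩
  · exact ⟨ew a b z w2, by rw [psi_ew hM, G2_eq]⟩

theorem card_TX (hM : Model π z ψ a b) : Nat.card ↥(T.comap ψ) = 128 := by
  rw [Nat.card_congr ((T.comap ψ).equivMapOfInjective ψ hM.inj).toEquiv,
    map_comap_eq, inf_eq_right.mpr (T_le hM), card_T]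

theorem index_TX (hM : Model π z ψ a b) : (T.comap ψ).index = 1485 := by
  have h1 := (T.comap ψ).card_mul_index
  rw [card_TX hM, Cov.card hM.cov] at h1
  omega

theorem isPGroup_TX (hM : Model π z ψ a b) : IsPGroup 2 ↥(T.comap ψ) :=
  IsPGroup.of_card (n := 7) (by rw [card_TX hM]; norm_num)

/-- a 2-subgroup is conjugate to a subgroup of `T` -/
theorem exists_conj (hM : Model π z ψ a b) {P : Subgroup X} (hP : IsPGroup 2 ↥P) :
    ∃ g : X, ∀ x ∈ P, ψ (g * x * g⁻¹) ∈ T := by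
  haveI := Cov.finite hM.cov
  haveI : Fact (Nat.Prime 2) := ⟨Nat.prime_two⟩
  let S : Sylow 2 X := (isPGroup_TX hM).toSylow (by rw [index_TX hM]; norm_num)
  obtain ⟨Q, hQ⟩ := hP.exists_le_sylow
  obtain ⟨g, hg⟩ := MulAction.exists_smul_eq X Q S
  refine ⟨g, fun x hx => ?_⟩
  have h1 : g * x * g⁻¹ ∈ (S : Subgroup X) := by
    rw [← hg]
    exact smul_mem_pointwise_smul x (MulAut.conj g) _ (hQ hx)
  exact h1

theorem TX_le_cent (hM : Model π z ψ a b) : T.comap ψ ≤ centralizer ({a} : Set X) := by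
  intro x hx
  rw [mem_centralizer_singleton_iff]
  apply hM.inj
  rw [map_mul, map_mul, hM.ψa]
  exact (comm_A hx).symm

/-- the same in the centralizer of `a` -/
theorem exists_conj_a (hM : Model π z ψ a b) {P : Subgroup X} (hP : IsPGroup 2 ↥P)
    (ha : ∀ x ∈ P, x * a = a * x) :
    ∃ g : X, g * a = a * g ∧ ∀ x ∈ P, ψ (g * x * g⁻¹) ∈ T := by
  haveI := Cov.finite hM.cov
  haveI : Fact (Nat.Prime 2) := ⟨Nat.prime_two⟩
  set C : Subgroup X := centralizer ({a} : Set X) with hC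
  have hidx : ¬ 2 ∣ ((T.comap ψ).subgroupOf C).index := by
    intro h
    have h1 := relIndex_mul_index (TX_le_cent hM)
    rw [index_TX hM] at h1
    have h2 : 2 ∣ 1485 := by rw [← h1]; exact Dvd.dvd.mul_right h _
    norm_num at h2
  have hp : IsPGroup 2 ↥((T.comap ψ).subgroupOf C) :=
    (isPGroup_TX hM).comap_of_injective C.subtype C.subtype_injective
  let S : Sylow 2 ↥C := hp.toSylow hidx
  have hPC : P ≤ C := fun x hx => mem_centralizer_singleton_iff.mpr (ha x hx)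
  have hP' : IsPGroup 2 ↥(P.subgroupOf C) := hP.comap_of_injective C.subtype C.subtype_injective
  obtain ⟨Q, hQ⟩ := hP'.exists_le_sylow
  obtain ⟨g, hg⟩ := MulAction.exists_smul_eq ↥C Q S
  refine ⟨g, mem_centralizer_singleton_iff.mp g.2, fun x hx => ?_⟩
  have h1 : g * ⟨x, hPC hx⟩ * g⁻¹ ∈ (S : Subgroup ↥C) := by
    rw [← hg]
    exact smul_mem_pointwise_smul _ (MulAut.conj g) _ (hQ (mem_subgroupOf.mpr hx))
  exact h1

theorem isPGroup_zpowers {Y : Type*} [Group Y] {x : Y} {n : ℕ} (h : x ^ 2 ^ n = 1) :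
    IsPGroup 2 ↥(zpowers x) := by
  haveI : Fact (Nat.Prime 2) := ⟨Nat.prime_two⟩
  have h1 := orderOf_dvd_of_pow_eq_one h
  obtain ⟨m, -, hm⟩ := (Nat.dvd_prime_pow Nat.prime_two).mp h1
  exact IsPGroup.of_card (n := m) (by rw [Nat.card_zpowers, hm])

theorem not_four (hM : Model π z ψ a b) (x : X) : x ^ 4 ≠ z := by
  intro h
  have h8 : x ^ 2 ^ 3 = 1 := by
    have : x ^ 2 ^ 3 = (x ^ 4) * (x ^ 4) := by rw [← pow_add]; norm_num
    rw [this, h, hM.cov.hz]
  obtain ⟨g, hg⟩ := exists_conj hM (isPGroup_zpowers h8)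
  have h1 := pow_four (hg x (mem_zpowers x))
  have h2 : (ψ (g * x * g⁻¹)) ^ 4 = Z := by
    rw [← map_pow, conj_pow, h, ← hM.cov.comm, mul_inv_cancel_right, hM.ψz]
  rw [h2] at h1
  rcases h1 with h1 | h1
  · exact Z_ne_one h1
  · exact A_ne_one (mul_eq_right.mp h1.symm)

/-- `a` is not a square -/
theorem not_sq_a (hM : Model π z ψ a b) (s : X) : s * s ≠ a := by
  intro h
  have hsa : s * a = a * s := by rw [← h]; group
  have h4 : s ^ 2 ^ 2 = 1 := by
    have : s ^ 2 ^ 2 = (s * s) * (s * s) := by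
      rw [← pow_two, ← pow_two, ← pow_mul]; norm_num
    rw [this, h, hM.rel.ha]
  obtain ⟨g, hga, hg⟩ := exists_conj_a hM (isPGroup_zpowers h4) (fun x hx => by
    obtain ⟨k, rfl⟩ := mem_zpowers_iff.mp hx
    exact ((show Commute s a from hsa).zpow_left k).eq)
  refine sq_ne_A (hg s (mem_zpowers s)) ?_
  rw [← map_mul, ← hM.ψa]
  congr 1
  calc g * s * g⁻¹ * (g * s * g⁻¹) = g * (s * s) * g⁻¹ := by group
    _ = g * a * g⁻¹ := by rw [h]
    _ = a := by rw [hga, mul_inv_cancel_right]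

end Cfsg.Agent.OddHalf.D9.TwoM12M
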