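import Cfsg.Agent.OddHalf.D9.TwoM12M.Base
import Cfsg.Agent.S0144

/-!
# 2.M12: the explicit facts
-/

set_option autoImplicit false
set_option maxRecDepth 100000

open Subgroup

namespace Cfsg.Agent.OddHalf.D9.TwoM12M

open Cfsg.Agent.OddHalf.D9.ExTrick (Perf)
open Cfsg.Agent.CoThreeStd.MTwelve (H wd wd_nil wd_cons inv_class card_cent_v)
open Cfsg.Agent.GH.MTwBound Cfsg.Agent.GH.MTwModel Cfsg.Agent.GH.MTwSyl Cfsg.Agent.GH.MTwFacts
  Cfsg.Agent.GH.MTwCover Cfsg.Agent.GH.MTwPsi Cfsg.Agent.GH.MTwCenter Cfsg.Agent.GH.MTwAut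
open Cfsg.Agent.GH.MTwCode (Pm)

/-- a quotient of A5 is perfect -/
theorem perf_closure {X : Type*} [Group X] {u v : X} (hu : u * u = 1) (hv : v * v * v = 1)
    (huv : (u * v) ^ 5 = 1) : Perf (closure {u, v}) := by
  set C : Subgroup X := closure {u, v} with hC
  have huC : u ∈ C := subset_closure (by simp)
  have hvC : v ∈ C := subset_closure (by simp)
  set q : ↥C →* Abelianization ↥C := Abelianization.of with hq
  set U := q ⟨u, huC⟩ with hU
  set V := q ⟨v, hvC⟩ with hV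
  have h1 : U * U = 1 := by
    rw [hU, ← map_mul]
    have : (⟨u, huC⟩ : ↥C) * ⟨u, huC⟩ = 1 := Subtype.ext hu
    rw [this, map_one]
  have h2 : V * V * V = 1 := by
    rw [hV, ← map_mul, ← map_mul]
    have : (⟨v, hvC⟩ : ↥C) * ⟨v, hvC⟩ * ⟨v, hvC⟩ = 1 := Subtype.ext hv
    rw [this, map_one]
  have h3 : (U * V) ^ 5 = 1 := by
    rw [hU, hV, ← map_mul, ← map_pow]
    have : ((⟨u, huC⟩ : ↥C) * ⟨v, hvC⟩) ^ 5 = 1 := Subtype.ext huv
    rw [this, map_one]
  have e1 : U ^ 5 = (U * U) * (U * U) * U := by simp only [pow_succ, pow_zero, one_mul, mul_assoc]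
  have e2 : V ^ 5 = (V * V * V) * (V * V) := by simp only [pow_succ, pow_zero, one_mul, mul_assoc]
  have h4 : U * (V * V) = 1 := by
    rw [mul_pow, e1, e2, h1, h2, one_mul, one_mul, one_mul] at h3
    exact h3
  have h5 : U = V := by
    calc U = U * (V * V * V) := by rw [h2, mul_one]
      _ = U * (V * V) * V := by simp only [mul_assoc]
      _ = V := by rw [h4, one_mul]
  have h6 : U = 1 := by
    rw [← h5] at h2
    rw [h1, one_mul] at h2
    exact h2
  have h7 : V = 1 := by rw [← h5, h6]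
  have hker : q.ker = commutator ↥C := Abelianization.ker_of ↥C
  have h8 : commutator ↥C = ⊤ := by
    rw [eq_top_iff]
    have h9 : C ≤ (commutator ↥C).map C.subtype := by
      rw [hC, closure_le]
      rintro x (rfl | rfl)
      · exact ⟨⟨x, huC⟩, by rw [← hker]; exact h6, rfl⟩
      · exact ⟨⟨x, hvC⟩, by rw [← hker]; exact h7, rfl⟩
    intro x _
    obtain ⟨y, hy, hyx⟩ := h9 x.2
    rwa [← Subtype.ext hyx]
  show ⁅C, C⁆ = C
  have h9 := congrArg (Subgroup.map C.subtype) h8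
  rw [_root_.commutator_def, Subgroup.map_commutator, ← MonoidHom.range_eq_map, C.range_subtype] at h9
  exact h9

/-- transport of closures by conjugation -/
theorem closure_conj {X : Type*} [Group X] {P : X → X → Prop}
    (hP : ∀ g y f, P y f → P (g * y * g⁻¹) (g * f * g⁻¹)) {f s : X}
    (h : s ∈ closure {y | P y f}) (g : X) : g * s * g⁻¹ ∈ closure {y | P y (g * f * g⁻¹)} := by
  have h1 : (closure {y | P y f}).map (MulAut.conj g).toMonoidHom ≤ closure {y | P y (g * f * g⁻¹)} := by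
    rw [MonoidHom.map_closure, closure_le]
    rintro _ ⟨y, hy, rfl⟩
    exact subset_closure (hP g y f hy)
  exact h1 ⟨s, h, rfl⟩

variable {X : Type*} [Group X] {π : X →* H} {z : X} {ψ : X →* Pm} {a b : X}

def y1 : List ℕ := [1, 0, 1, 0, 1, 0, 1, 0, 2, 0, 2, 0, 2, 0, 1, 0, 1, 0, 1, 0, 1, 0]
def y2 : List ℕ := [2, 0, 1, 0, 2, 0, 2, 0, 1, 0, 2, 0, 2, 0, 2, 0, 1, 0, 2, 0, 1, 0, 1, 0, 1]
def y3 : List ℕ := [2, 0, 1, 0, 2, 0, 2, 0, 2, 0, 2, 0, 1, 0, 2, 0, 1, 0, 1, 0, 2, 0, 2, 0, 1]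
def i1 : List ℕ := [2, 0, 1, 0, 2, 0, 1, 0, 2, 0, 1]
def i2 : List ℕ := [1, 0, 2, 0, 1, 0, 2, 0, 1, 0, 2]
def i3 : List ℕ := [2, 0, 2, 0, 1, 0, 2, 0, 1, 0, 1, 0, 2, 0, 2, 0, 1, 0, 2, 0, 1, 0, 1]

theorem mem_y (hM : Model π z ψ a b) {w : List ℕ} (h1 : Nat.beq (wc (w ++ [0, 3])) (wc ([0, 3] ++ w)) = true)
    (h2 : Nat.beq (wc (w ++ (w ++ w))) (wc []) = true) :
    ew a b z w ∈ {y : X | y * (a * z) = (a * z) * y ∧ y ^ 3 = 1} := by
  have haz : ew a b z [0, 3] = a * z := by rw [ew_cons, ew_cons, ew_nil, mul_one]; rfl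
  refine ⟨?_, ?_⟩
  · have := ewX_eq hM h1
    rwa [ew_append, ew_append, haz] at this
  · have := ewX_eq hM h2
    rw [ew_append, ew_append, ew_nil] at this
    rw [pow_three]; exact this

theorem mem_i (hM : Model π z ψ a b) {w : List ℕ} (h1 : Nat.beq (wc (w ++ [0, 3])) (wc ([0, 3] ++ w)) = true)
    (h2 : Nat.beq (wc (w ++ w)) (wc []) = true) :
    ew a b z w ∈ {y : X | y * (a * z) = (a * z) * y ∧ y * y = 1} := by
  have haz : ew a b z [0, 3] = a * z := by rw [ew_cons, ew_cons, ew_nil, mul_one]; rfl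
  refine ⟨?_, ?_⟩
  · have := ewX_eq hM h1
    rwa [ew_append, ew_append, haz] at this
  · have := ewX_eq hM h2
    rwa [ew_append, ew_nil] at this

theorem y3_az (hM : Model π z ψ a b) :
    (∃ s ∈ closure {y : X | y * (a * z) = (a * z) * y ∧ y ^ 3 = 1}, s * s = z) ∧
      ∃ s ∈ closure {y : X | y * (a * z) = (a * z) * y ∧ y ^ 3 = 1}, s * s = a * z := by
  have m1 := Subgroup.subset_closure (mem_y hM (w := y1) (by decide +kernel) (by decide +kernel))
  have m2 := Subgroup.subset_closure (mem_y hM (w := y2) (by decide +kernel) (by decide +kernel))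
  have m3 := Subgroup.subset_closure (mem_y hM (w := y3) (by decide +kernel) (by decide +kernel))
  refine ⟨⟨_, mul_mem m1 m2, ?_⟩, ⟨_, mul_mem m1 m3, ?_⟩⟩
  · have h := ewX_eq hM (u := (y1 ++ y2) ++ (y1 ++ y2)) (v := [3]) (by decide +kernel)
    rw [ew_append, ew_append, ew_cons, ew_nil, mul_one] at h
    exact h
  · have h := ewX_eq hM (u := (y1 ++ y3) ++ (y1 ++ y3)) (v := [0, 3]) (by decide +kernel)
    rw [ew_append, ew_append, ew_cons, ew_cons, ew_nil, mul_one] at h
    exact h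

theorem four_az (hM : Model π z ψ a b) :
    ∃ x ∈ closure {w : X | w * (a * z) = (a * z) * w ∧ w * w = 1}, x ^ 4 = a * z := by
  have m1 := Subgroup.subset_closure (mem_i hM (w := i1) (by decide +kernel) (by decide +kernel))
  have m2 := Subgroup.subset_closure (mem_i hM (w := i2) (by decide +kernel) (by decide +kernel))
  have m3 := Subgroup.subset_closure (mem_i hM (w := i3) (by decide +kernel) (by decide +kernel))
  refine ⟨_, mul_mem (mul_mem m1 m2) m3, ?_⟩
  have h := ewX_eq hM (u := ((i1 ++ i2 ++ i3) ++ (i1 ++ i2 ++ i3)) ++ ((i1 ++ i2 ++ i3) ++ (i1 ++ i2 ++ i3)))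
    (v := [0, 3]) (by decide +kernel)
  rw [ew_append, ew_append, ew_append, ew_append, ew_cons, ew_cons, ew_nil, mul_one] at h
  rw [show (4 : ℕ) = 2 + 2 by norm_num, pow_add, pow_two]
  exact h

/-! ### elements squaring to `z` -/

def k0 (a b z : X) : X := ew a b z wx
def uk : List ℕ := [0, 2, 0, 2, 0, 1, 0, 2, 0, 2, 0, 1, 0, 1, 0, 2, 0, 1, 0, 1, 0]
def vk : List ℕ := [0, 2, 0, 1, 0, 2, 0, 1, 0, 1, 0, 2, 0, 1, 0]

theorem ew_sq (a b z : X) (w : List ℕ) : ew a b z (w ++ w) = ew a b z w * ew a b z w := ew_append _ _ _ _ _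

theorem perf_words (hM : Model π z ψ a b) {u v : List ℕ} (hu : Nat.beq (wc (u ++ u)) (wc []) = true)
    (hv : Nat.beq (wc (v ++ v ++ v)) (wc []) = true)
    (huv : Nat.beq (wc (List.replicate 5 (u ++ v)).flatten) (wc []) = true) :
    Perf (closure {ew a b z u, ew a b z v}) := by
  refine perf_closure ?_ ?_ ?_
  · have := ewX_eq hM hu
    rwa [ew_append, ew_nil] at this
  · have := ewX_eq hM hv
    rwa [ew_append, ew_append, ew_nil] at this
  · have := ewX_eq hM huv
    rwa [ew_pow, ew_append, ew_nil] at this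

theorem ne_one_of_code (hM : Model π z ψ a b) {u : List ℕ} (h : Nat.beq (wc u) (wc []) = false) :
    ew a b z u ≠ 1 := by
  intro h1
  have h2 := congrArg ψ h1
  rw [psi_ew hM, map_one, ← ew_nil A B Z] at h2
  have h3 := congrArg Cfsg.Agent.GH.MTwCode.code h2
  rw [code_ew, code_ew] at h3
  rw [h3, Nat.beq_refl] at h
  exact absurd h (by simp)

theorem v_perf0 (hM : Model π z ψ a b) :
    ∃ Y : Subgroup X, Perf Y ∧ (∀ y ∈ Y, y * k0 a b z = k0 a b z * y) ∧ ∃ x ∈ Y, x ≠ 1 ∧ x * x = 1 := by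
  refine ⟨closure {ew a b z uk, ew a b z vk}, perf_words hM (by decide +kernel) (by decide +kernel)
    (by decide +kernel), ?_, ew a b z uk, subset_closure (by simp), ne_one_of_code hM (by decide +kernel), ?_⟩
  · have h1 : closure {ew a b z uk, ew a b z vk} ≤ centralizer ({k0 a b z} : Set X) := by
      rw [closure_le]
      rintro x (rfl | rfl)
      · have := ewX_eq hM (u := uk ++ wx) (v := wx ++ uk) (by decide +kernel)
        rw [ew_append, ew_append] at this
        exact mem_centralizer_singleton_iff.mpr this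
      · have := ewX_eq hM (u := vk ++ wx) (v := wx ++ vk) (by decide +kernel)
        rw [ew_append, ew_append] at this
        exact mem_centralizer_singleton_iff.mpr this
    intro y hy
    exact mem_centralizer_singleton_iff.mp (h1 hy)
  · have := ewX_eq hM (u := uk ++ uk) (v := []) (by decide +kernel)
    rwa [ew_append, ew_nil] at this

/-- all square roots of `z` are conjugate -/
theorem root_conj (hM : Model π z ψ a b) [IsSimpleGroup H] {k : X} (hk : k * k = z) : ∃ g, g * k0 a b z * g⁻¹ = k := by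
  have h0 : k0 a b z * k0 a b z = z := x_sq hM
  have hπk : π k ≠ 1 := by
    intro h
    rcases hM.cov.ker k h with h1 | h1
    · rw [h1, one_mul] at hk; exact hM.cov.hz1 hk.symm
    · rw [h1, hM.cov.hz] at hk; exact hM.cov.hz1 hk.symm
  have hπ2 : π k * π k = 1 := by rw [← map_mul, hk, hM.cov.hπz]
  rcases inv_class (π k) hπk hπ2 with ⟨c, hc⟩ | ⟨c, hc⟩
  · -- `π k0` is also of this class
    have hy : Cfsg.Agent.CoThreeStd.MTwelve.y = wd [0] := by rw [wd_cons, wd_nil, mul_one]; rfl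
    rw [hy] at hc
    obtain ⟨g, hg⟩ := hM.cov.surj ((wd [5,0,3,2,5,0])⁻¹ * c)
    have h1 : π (g⁻¹ * k0 a b z * g) = π k := by
      rw [map_mul, map_mul, map_inv, hg, k0, map_ew, hM.πa, hM.πb, hM.cov.hπz, ← conj_y, ← hc]
      group
    rcases hM.cov.eq_or h1 with h2 | h2
    · exact ⟨g⁻¹, by rw [inv_inv, h2]⟩
    · obtain ⟨m, hm⟩ := hM.cov.surj (ew a0 b0 1 wg)
      have h3 := lifts hM.cov (x := k0 a b z) (g := m) (by
        rw [k0, map_ew, hM.πa, hM.πb, hM.cov.hπz]) hm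
      refine ⟨g⁻¹ * m, ?_⟩
      have hzm : z * m⁻¹ = m⁻¹ * z := hM.cov.comm _
      have h4 : m * k0 a b z * m⁻¹ = k0 a b z * z := by
        calc m * k0 a b z * m⁻¹ = k0 a b z * m * z * m⁻¹ := by rw [h3]
          _ = k0 a b z * m * (z * m⁻¹) := by group
          _ = k0 a b z * z := by rw [hzm]; group
      have hzg : z * g = g * z := hM.cov.comm _
      calc g⁻¹ * m * k0 a b z * (g⁻¹ * m)⁻¹ = g⁻¹ * (m * k0 a b z * m⁻¹) * g := by group
        _ = g⁻¹ * k0 a b z * (z * g) := by rw [h4]; group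
        _ = (g⁻¹ * k0 a b z * g) * z := by rw [hzg]; group
        _ = k * (z * z) := by rw [h2]; group
        _ = k := by rw [hM.cov.hz, mul_one]
  · exfalso
    have h1 := hM.cov.sq_eq_one (x := k) (c := c) hc
    rw [h1] at hk
    exact hM.cov.hz1 hk.symm

end Cfsg.Agent.OddHalf.D9.TwoM12M
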