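import Cfsg.Agent.OddHalf.D9.TwoM12M.Outer
import Cfsg.Agent.OddHalf.D9.Amb

/-!
# 2.M12: `M12Glue.KFacts`
-/

set_option autoImplicit false
set_option maxRecDepth 100000

open Subgroup

namespace Cfsg.Agent.OddHalf.D9.TwoM12M

open Cfsg.Agent.OddHalf.D9.ExTrick (Perf)
open Cfsg.Agent.OddHalf.D9.M12Glue (Inn InvL KFacts)
open Cfsg.Agent.CoThreeStd.MTwelve (H wd wd_nil wd_cons inv_class card_cent_v)
open Cfsg.Agent.GH.MTwBound Cfsg.Agent.GH.MTwModel Cfsg.Agent.GH.MTwSyl Cfsg.Agent.GH.MTwFacts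
  Cfsg.Agent.GH.MTwCover Cfsg.Agent.GH.MTwPsi Cfsg.Agent.GH.MTwCenter Cfsg.Agent.GH.MTwAut
open Cfsg.Agent.GH.MTwCode (Pm app)

variable {X : Type*} [Group X] {π : X →* H} {z : X} {ψ : X →* Pm} {a b : X}

/-- the centre -/
theorem central (hM : Model π z ψ a b) [IsSimpleGroup H] {x : X} (hx : ∀ y, x * y = y * x) :
    x = 1 ∨ x = z := by
  apply hM.cov.ker
  have h1 : π x ∈ center H := by
    rw [mem_center_iff]
    intro g
    obtain ⟨y, rfl⟩ := hM.cov.surj g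
    rw [← map_mul, ← map_mul, hx]
  rcases (inferInstance : (center H).Normal).eq_bot_or_eq_top with h2 | h2
  · rw [h2, mem_bot] at h1
    exact h1
  · exfalso
    have h3 : commutator X ≤ π.ker := by
      rw [commutator_def, commutator_le]
      intro u _ v _
      rw [MonoidHom.mem_ker, commutatorElement_def, map_mul, map_mul, map_mul, map_inv, map_inv]
      have h4 : π u ∈ center H := by rw [h2]; trivial
      rw [(mem_center_iff.mp h4 (π v)).symm, mul_inv_cancel_right, mul_inv_cancel]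
    rw [hM.cov.perfect] at h3
    obtain ⟨g, hg⟩ := exists_ne (1 : H)
    obtain ⟨y, rfl⟩ := hM.cov.surj g
    exact hg (h3 (mem_top y))

theorem ker_or (hM : Model π z ψ a b) {f : X} (hf : InvL z f) : π f ≠ 1 := by
  intro h
  rcases hM.cov.ker f h with h1 | h1
  · exact hf.ne h1
  · exact hf.nec h1

/-- the class of an involution -/
theorem inv_conj (hM : Model π z ψ a b) {f : X} (hf : InvL z f) :
    ∃ g, g * f * g⁻¹ = a ∨ g * f * g⁻¹ = a * z := by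
  obtain ⟨c, hc⟩ := type_of_sq hM hf.sq (ker_or hM hf)
  obtain ⟨g, rfl⟩ := hM.cov.surj c
  have h1 : π (g * f * g⁻¹) = π a := by
    rw [map_mul, map_mul, map_inv, ← hc, hM.πa]
    group
  exact ⟨g, hM.cov.eq_or h1⟩

theorem zc (hM : Model π z ψ a b) (g : X) : g * z * g⁻¹ = z := by
  rw [← hM.cov.comm, mul_inv_cancel_right]

/-- an involution which is a square -/
theorem sq_conj (hM : Model π z ψ a b) {f : X} (hf : InvL z f) (hs : ∃ s, s * s = f) :
    ∃ g, g * f * g⁻¹ = a * z := by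
  obtain ⟨g, hg | hg⟩ := inv_conj hM hf
  · exfalso
    obtain ⟨s, rfl⟩ := hs
    apply not_sq_a hM (g * s * g⁻¹)
    rw [← hg]; group
  · exact ⟨g, hg⟩

/-- `az` is a square -/
theorem az_sq (hM : Model π z ψ a b) : ∃ s : X, s * s = a * z := by
  obtain ⟨x, -, hx⟩ := four_az hM
  exact ⟨x * x, by rw [← hx]; simp only [pow_succ, pow_zero, one_mul, mul_assoc]⟩

theorem sq_of_conj {f w g : X} (h : g * f * g⁻¹ = w) (hs : ∃ s, s * s = w) : ∃ s : X, s * s = f := by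
  obtain ⟨s, hs⟩ := hs
  refine ⟨g⁻¹ * s * g, ?_⟩
  calc g⁻¹ * s * g * (g⁻¹ * s * g) = g⁻¹ * (s * s) * g := by group
    _ = f := by rw [hs, ← h]; group

theorem invL_mul (hM : Model π z ψ a b) {f : X} (hf : InvL z f) : InvL z (f * z) := by
  refine ⟨?_, ?_, ?_⟩
  · calc f * z * (f * z) = f * (z * f) * z := by group
      _ = (f * f) * (z * z) := by rw [hM.cov.comm]; group
      _ = 1 := by rw [hf.sq, hM.cov.hz, mul_one]
  · intro h
    apply hf.nec
    have := eq_inv_of_mul_eq_one_left h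
    rw [this, inv_eq_of_mul_eq_one_left hM.cov.hz]
  · intro h
    exact hf.ne (mul_eq_right.mp h)

/-- centralizers of involutions are solvable -/
theorem solv (hM : Model π z ψ a b) {f : X} (hf : InvL z f) {Y : Subgroup X} (hY : Perf Y)
    (hYf : ∀ y ∈ Y, y * f = f * y) : ∀ y ∈ Y, y = 1 := by
  haveI := Cov.finite hM.cov
  obtain ⟨c, hc⟩ := type_of_sq hM hf.sq (ker_or hM hf)
  -- the image of `Y` in `M12`
  have h1 : (Y.map π).map (MulAut.conj c).toMonoidHom ≤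
      centralizer ({Cfsg.Agent.CoThreeStd.MTwelve.p * Cfsg.Agent.CoThreeStd.MTwelve.r} : Set H) := by
    rintro _ ⟨_, ⟨y, hy, rfl⟩, rfl⟩
    rw [mem_centralizer_singleton_iff, ← a0_eq]
    show c * π y * c⁻¹ * a0 = a0 * (c * π y * c⁻¹)
    have h2 : π y * π f = π f * π y := by rw [← map_mul, ← map_mul, hYf y hy]
    rw [← hc] at h2
    calc c * π y * c⁻¹ * a0 = c * (π y * (c⁻¹ * a0 * c)) * c⁻¹ := by group
      _ = c * (c⁻¹ * a0 * c * π y) * c⁻¹ := by rw [h2]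
      _ = a0 * (c * π y * c⁻¹) := by group
  have h3 : Nat.card ↥((Y.map π).map (MulAut.conj c).toMonoidHom) ∣ 192 := by
    rw [← card_cent_v]
    exact Subgroup.card_dvd_of_le h1
  have h4 : Nat.card ↥(Y.map π) ∣ 192 := by
    rwa [← Nat.card_congr ((Y.map π).equivMapOfInjective _ (MulAut.conj c).injective).toEquiv] at h3
  have h5 : Nat.card ↥Y ∣ 2 ^ 7 * 3 ^ 1 := by
    have h6 : Nat.card ↥Y = Nat.card ↥(Y.map π) * Nat.card ↥(π.comp Y.subtype).ker := by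
      have h8 := (π.comp Y.subtype).ker.card_mul_index
      rw [index_ker, MonoidHom.range_comp, Y.range_subtype] at h8
      rw [← h8, mul_comm]
    have h7 : Nat.card ↥(π.comp Y.subtype).ker ∣ 2 := by
      have h8 : Nat.card ↥((π.comp Y.subtype).ker.map Y.subtype) ∣ Nat.card π.ker := by
        apply Subgroup.card_dvd_of_le
        rintro _ ⟨y, hy, rfl⟩
        exact hy
      rw [Cov.card_ker hM.cov] at h8
      rwa [← Nat.card_congr ((π.comp Y.subtype).ker.equivMapOfInjective _ Y.subtype_injective).toEquiv] at h8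
    rw [h6]
    have := Nat.mul_dvd_mul h4 h7
    norm_num at this ⊢
    exact this
  obtain ⟨d1, hd1, d2, hd2, hd⟩ : ∃ d1, d1 ∣ 2 ^ 7 ∧ ∃ d2, d2 ∣ 3 ^ 1 ∧ d1 * d2 = Nat.card ↥Y := by
    obtain ⟨d1, d2, h1, h2, h3⟩ := (Nat.dvd_mul).mp h5
    exact ⟨d1, h1, d2, h2, h3⟩
  obtain ⟨i, -, rfl⟩ := (Nat.dvd_prime_pow Nat.prime_two).mp hd1
  obtain ⟨j, -, rfl⟩ := (Nat.dvd_prime_pow Nat.prime_three).mp hd2
  have hsol := Cfsg.Agent.S0144.result (G := ↥Y) 2 3 i j Nat.prime_two Nat.prime_three hd.symm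
  intro y hy
  by_contra hy1
  haveI : Nontrivial ↥Y := ⟨⟨y, hy⟩, 1, fun h => hy1 (congrArg Subtype.val h)⟩
  have hlt := Group.IsSolvable.commutator_lt_top_of_nontrivial ↥Y
  apply hlt.ne
  apply map_injective Y.subtype_injective
  rw [_root_.commutator_def, Subgroup.map_commutator, ← MonoidHom.range_eq_map, Y.range_subtype]
  exact hY

/-- outer automorphisms -/
theorem outer_form (hM : Model π z ψ a b) {α : MulAut X} (hα : α ∉ Inn X) :
    ∃ g, ∀ x, ψ (α x) = ψ g * (W * ψ x * W) * (ψ g)⁻¹ := by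
  obtain ⟨g, hg | hg⟩ := aut hM α
  · exfalso
    apply hα
    refine ⟨g, ?_⟩
    ext x
    apply hM.inj
    show ψ (g * x * g⁻¹) = ψ (α x)
    rw [hg, map_mul, map_mul, map_inv]
  · exact ⟨g, hg⟩

theorem out (hM : Model π z ψ a b) {φ χ : MulAut X} (hφ : φ ∉ Inn X) (hχ : χ ∉ Inn X) :
    φ * χ ∈ Inn X := by
  obtain ⟨g, hg⟩ := outer_form hM hφ
  obtain ⟨k, hk⟩ := outer_form hM hχ
  obtain ⟨τ, hτ, -⟩ := exists_tau hM
  refine ⟨g * τ k, ?_⟩
  ext x
  apply hM.inj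
  show ψ (g * τ k * x * (g * τ k)⁻¹) = ψ (φ (χ x))
  have hWi : (W : Pm)⁻¹ = W := W_inv
  rw [hg, hk, map_mul, map_mul, map_mul, map_inv, map_mul, hτ]
  calc ψ g * (W * ψ k * W) * ψ x * (ψ g * (W * ψ k * W))⁻¹
      = ψ g * (W * ψ k * W) * ψ x * (W⁻¹ * (ψ k)⁻¹ * W⁻¹) * (ψ g)⁻¹ := by group
    _ = ψ g * (W * ψ k * W) * (1 * ψ x * 1) * (W * (ψ k)⁻¹ * W) * (ψ g)⁻¹ := by
        rw [hWi, one_mul, mul_one]
    _ = ψ g * (W * ψ k * W) * ((W * W) * ψ x * (W * W)) * (W * (ψ k)⁻¹ * W) * (ψ g)⁻¹ := by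
        rw [W_sq, one_mul, mul_one]
    _ = ψ g * W * ψ k * (W * W) * W * ψ x * W * (W * W) * (ψ k)⁻¹ * W * (ψ g)⁻¹ := by group
    _ = ψ g * (W * (ψ k * (W * ψ x * W) * (ψ k)⁻¹) * W) * (ψ g)⁻¹ := by
        rw [W_sq, mul_one, mul_one]; group

/-- an outer involutory automorphism is conjugate to `τ` -/
theorem outer_conj (hM : Model π z ψ a b) [IsSimpleGroup H] {α : MulAut X} (hα : α ∉ Inn X)
    (h2 : α * α = 1) : ∃ v : X, ∀ x, ψ (α x) = (ψ v * W * (ψ v)⁻¹) * ψ x * (ψ v * W * (ψ v)⁻¹) := by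
  obtain ⟨g, hg⟩ := outer_form hM hα
  have hWi : (W : Pm)⁻¹ = W := W_inv
  set u := ψ g * W with hu
  have hα' : ∀ x, ψ (α x) = u * ψ x * u⁻¹ := by
    intro x
    rw [hg, hu, mul_inv_rev, hWi]
    group
  obtain ⟨τ, hτ, -⟩ := exists_tau hM
  have hWW : ∀ x : Pm, x * W * W = x := fun x => by rw [mul_assoc, W_sq, mul_one]
  have huu : u * u = ψ (g * τ g) := by
    rw [map_mul, hτ, hu]
    calc ψ g * W * (ψ g * W) = ψ g * W * ψ g * W := by group
      _ = ψ g * (W * ψ g * W) := by group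
  have hcen : ∀ y, (g * τ g) * y = y * (g * τ g) := by
    intro y
    apply hM.inj
    rw [map_mul ψ (g * τ g) y, map_mul ψ y (g * τ g), ← huu]
    have h3 : α (α y) = y := by
      have := congrArg (fun β : MulAut X => β y) h2
      exact this
    have h4 : ψ y = u * (u * ψ y * u⁻¹) * u⁻¹ := by rw [← hα', ← hα', h3]
    calc u * u * ψ y = u * (u * ψ y * u⁻¹) * u⁻¹ * (u * u) := by group
      _ = ψ y * (u * u) := by rw [← h4]
  have hu2 : u * u = 1 ∨ u * u = Z := by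
    rw [huu]
    rcases central hM hcen with h | h
    · left; rw [h, map_one]
    · right; rw [h, hM.ψz]
  obtain ⟨v, hv, hvu⟩ := key hM (u := u) (by rw [hu, hWW, ← hM.range]; exact ⟨g, rfl⟩) hu2
  rw [← hM.range] at hv
  obtain ⟨v, rfl⟩ := hv
  refine ⟨v, fun x => ?_⟩
  have h3 : (ψ v * W * (ψ v)⁻¹)⁻¹ = ψ v * W * (ψ v)⁻¹ := by
    rw [mul_inv_rev, mul_inv_rev, inv_inv, hWi, mul_assoc]
  rw [hα', hvu, h3]

def uo : List ℕ := [0]
def vo : List ℕ := [2, 0, 1, 0, 2, 0, 2, 0, 1, 0, 2, 0, 2, 0, 1, 0, 1, 0, 2, 0, 2, 0, 2, 0, 1, 0, 1, 0, 1, 0]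

theorem o_perf0 (hM : Model π z ψ a b) :
    ∃ Y : Subgroup X, Perf Y ∧ (∀ y ∈ Y, W * ψ y * W = ψ y) ∧ ∃ x ∈ Y, x ≠ 1 ∧ x * x = 1 := by
  have hWi : (W : Pm)⁻¹ = W := W_inv
  refine ⟨closure {ew a b z uo, ew a b z vo}, perf_words hM (by decide +kernel) (by decide +kernel)
    (by decide +kernel), ?_, ew a b z uo, subset_closure (by simp), ne_one_of_code hM (by decide +kernel), ?_⟩
  · have hw : ∀ w : List ℕ, Nat.beq (tc (wc w)) (wc w) = true → W * ψ (ew a b z w) * W = ψ (ew a b z w) := by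
      intro w h
      apply Cfsg.Agent.GH.MTwCode.code_inj
      rw [psi_ew hM, code_tau, code_ew]
      exact Nat.eq_of_beq_eq_true h
    have h1 : closure {ew a b z uo, ew a b z vo} ≤ (centralizer ({W} : Set Pm)).comap ψ := by
      rw [closure_le]
      have hc : ∀ w : List ℕ, Nat.beq (tc (wc w)) (wc w) = true →
          ew a b z w ∈ (centralizer ({W} : Set Pm)).comap ψ := by
        intro w h
        rw [mem_comap, mem_centralizer_singleton_iff]
        have h2 := hw w h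
        calc ψ (ew a b z w) * W = (W * ψ (ew a b z w) * W) * W := by rw [h2]
          _ = W * ψ (ew a b z w) * (W * W) := by group
          _ = W * ψ (ew a b z w) := by rw [W_sq, mul_one]
      rintro x (rfl | rfl)
      · exact hc _ (by decide +kernel)
      · exact hc _ (by decide +kernel)
    intro y hy
    have h2 := h1 hy
    rw [mem_comap, mem_centralizer_singleton_iff] at h2
    calc W * ψ y * W = W * (ψ y * W) := by group
      _ = (W * W) * ψ y := by rw [h2]; group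
      _ = ψ y := by rw [W_sq, one_mul]
  · have := ewX_eq hM (u := uo ++ uo) (v := []) (by decide +kernel)
    rwa [ew_append, ew_nil] at this

theorem o_perf (hM : Model π z ψ a b) [IsSimpleGroup H] {α : MulAut X} (hα : α ∉ Inn X)
    (h2 : α * α = 1) : ∃ Y : Subgroup X, Perf Y ∧ (∀ y ∈ Y, α y = y) ∧ ∃ x ∈ Y, x ≠ 1 ∧ x * x = 1 := by
  obtain ⟨v, hv⟩ := outer_conj hM hα h2
  obtain ⟨Y, hY, hYW, x, hx, hx1, hxx⟩ := o_perf0 hM
  refine ⟨Y.map (MulAut.conj v).toMonoidHom, ?_, ?_, v * x * v⁻¹, ⟨x, hx, rfl⟩, ?_, ?_⟩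
  · unfold Perf
    rw [← Subgroup.map_commutator, hY]
  · rintro _ ⟨y, hy, rfl⟩
    apply hM.inj
    have h1 := hYW y hy
    show ψ (α (v * y * v⁻¹)) = ψ (v * y * v⁻¹)
    rw [hv, map_mul, map_mul, map_inv]
    calc ψ v * W * (ψ v)⁻¹ * (ψ v * ψ y * (ψ v)⁻¹) * (ψ v * W * (ψ v)⁻¹)
        = ψ v * (W * ψ y * W) * (ψ v)⁻¹ := by group
      _ = ψ v * ψ y * (ψ v)⁻¹ := by rw [h1]
  · intro h
    apply hx1
    calc x = v⁻¹ * (v * x * v⁻¹) * v := by group
      _ = 1 := by rw [h]; group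
  · calc v * x * v⁻¹ * (v * x * v⁻¹) = v * (x * x) * v⁻¹ := by group
      _ = 1 := by rw [hxx]; group

theorem o_conj (hM : Model π z ψ a b) [IsSimpleGroup H] {α : MulAut X} (hα : α ∉ Inn X)
    (h2 : α * α = 1) {m : X} (hm : α m * m = 1) : ∃ n, m = α n * n⁻¹ := by
  have hWi : (W : Pm)⁻¹ = W := W_inv
  obtain ⟨v, hv⟩ := outer_conj hM hα h2
  set u := ψ v * W * (ψ v)⁻¹ with hu
  have huu : u * u = 1 := by
    calc u * u = ψ v * (W * W) * (ψ v)⁻¹ := by rw [hu]; group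
      _ = 1 := by rw [W_sq]; group
  have hm' : u * ψ m * u * ψ m = 1 := by
    rw [← hv, ← map_mul, hm, map_one]
  -- `t = u ψ(m)` is an involution outside `M`
  have huW : u * W ∈ M := by
    have h3 := W_mem_M (m := (ψ v)⁻¹) (by rw [← hM.range]; exact ⟨v⁻¹, map_inv _ _⟩)
    have h4 : u * W = ψ v * (W * (ψ v)⁻¹ * W) := by rw [hu]; group
    rw [h4]
    exact mul_mem (by rw [← hM.range]; exact ⟨v, rfl⟩) h3
  have h3 : (u * ψ m) * W ∈ M := by
    have h4 := W_mem_M (m := ψ m) (by rw [← hM.range]; exact ⟨m, rfl⟩)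
    have h5 : (u * ψ m) * W = (u * W) * (W * ψ m * W) := by
      calc (u * ψ m) * W = u * 1 * ψ m * W := by group
        _ = u * (W * W) * ψ m * W := by rw [W_sq]
        _ = (u * W) * (W * ψ m * W) := by group
    rw [h5]
    exact mul_mem huW h4
  obtain ⟨w, hw, hwu⟩ := key hM (u := u * ψ m) h3 (Or.inl (by rw [← mul_assoc]; exact hm'))
  rw [← hM.range] at hw
  obtain ⟨w, rfl⟩ := hw
  -- `u ψ m = w W w⁻¹`, `u = v W v⁻¹`; `n = w v⁻¹`
  refine ⟨w * v⁻¹, ?_⟩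
  apply hM.inj
  rw [map_mul, hv, map_inv, map_mul, map_inv]
  have h4 : ψ m = u * (ψ w * W * (ψ w)⁻¹) := by
    rw [← hwu, ← mul_assoc, huu, one_mul]
  rw [h4]
  calc u * (ψ w * W * (ψ w)⁻¹) = u * ψ w * (ψ v)⁻¹ * (ψ v * W * (ψ v)⁻¹) * ψ v * (ψ w)⁻¹ := by group
    _ = u * (ψ w * (ψ v)⁻¹) * u * (ψ w * (ψ v)⁻¹)⁻¹ := by rw [← hu]; group

/-- **`M12Glue.KFacts`** -/
theorem kfacts (hM : Model π z ψ a b) [IsSimpleGroup H] : KFacts X z where
  cc := hM.cov.hz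
  c1 := hM.cov.hz1
  cen x := by
    refine ⟨fun h => central hM h, ?_⟩
    rintro (rfl | rfl) y
    · rw [one_mul, mul_one]
    · exact hM.cov.comm y
  out φ χ hφ hχ := out hM hφ hχ
  conj f w hf hw := by
    obtain ⟨g, hg⟩ := inv_conj hM hf
    obtain ⟨k, hk⟩ := inv_conj hM hw
    have hz2 : a * z * z = a := by rw [mul_assoc, hM.cov.hz, mul_one]
    have e1 : ∀ x : X, g * (x * z) * g⁻¹ = g * x * g⁻¹ * z := fun x => by
      calc g * (x * z) * g⁻¹ = g * x * (z * g⁻¹) := by group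
        _ = g * x * g⁻¹ * z := by rw [hM.cov.comm]; group
    have e2 : ∀ x y : X, g * x * g⁻¹ = k * y * k⁻¹ → (k⁻¹ * g) * x * (k⁻¹ * g)⁻¹ = y := by
      intro x y h
      calc (k⁻¹ * g) * x * (k⁻¹ * g)⁻¹ = k⁻¹ * (g * x * g⁻¹) * k := by group
        _ = y := by rw [h]; group
    refine ⟨k⁻¹ * g, ?_⟩
    rcases hg with hg | hg <;> rcases hk with hk | hk
    · exact Or.inl (e2 _ _ (by rw [hg, hk]))
    · exact Or.inr (e2 _ _ (by rw [e1, hg, hk]))
    · exact Or.inr (e2 _ _ (by rw [e1, hg, hk, hz2]))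
    · exact Or.inl (e2 _ _ (by rw [hg, hk]))
  sq_or f hf := by
    obtain ⟨g, hg | hg⟩ := inv_conj hM hf
    · right
      refine sq_of_conj (g := g) ?_ (az_sq hM)
      calc g * (f * z) * g⁻¹ = g * f * (z * g⁻¹) := by group
        _ = g * f * g⁻¹ * z := by rw [hM.cov.comm]; group
        _ = a * z := by rw [hg]
    · left
      exact sq_of_conj hg (az_sq hM)
  sq_not f hf hs hs' := by
    obtain ⟨g, hg⟩ := sq_conj hM (invL_mul hM hf) hs'
    apply not_sq_a hM (g * hs.choose * g⁻¹)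
    have h1 := hs.choose_spec
    calc g * hs.choose * g⁻¹ * (g * hs.choose * g⁻¹) = g * (hs.choose * hs.choose) * g⁻¹ := by group
      _ = g * f * g⁻¹ := by rw [h1]
      _ = (g * (f * z) * g⁻¹) * (g * z⁻¹ * g⁻¹) := by group
      _ = a * z * (g * z * g⁻¹) := by rw [hg, inv_eq_of_mul_eq_one_left hM.cov.hz]
      _ = a := by rw [zc hM, mul_assoc, hM.cov.hz, mul_one]
  y3 f hf hs := by
    obtain ⟨g, hg⟩ := sq_conj hM hf hs
    obtain ⟨⟨s, hs1, hs2⟩, t, ht1, ht2⟩ := y3_az hM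
    have hP : ∀ g y f : X, (y * f = f * y ∧ y ^ 3 = 1) →
        (g * y * g⁻¹ * (g * f * g⁻¹) = g * f * g⁻¹ * (g * y * g⁻¹) ∧ (g * y * g⁻¹) ^ 3 = 1) := by
      rintro g y f ⟨h1, h2⟩
      refine ⟨?_, by rw [conj_pow, h2, mul_one, mul_inv_cancel]⟩
      calc g * y * g⁻¹ * (g * f * g⁻¹) = g * (y * f) * g⁻¹ := by group
        _ = g * f * g⁻¹ * (g * y * g⁻¹) := by rw [h1]; group
    have e : g⁻¹ * (a * z) * g⁻¹⁻¹ = f := by rw [← hg]; group
    have h1 := closure_conj (P := fun y f => y * f = f * y ∧ y ^ 3 = 1) hP hs1 g⁻¹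
    have h2 := closure_conj (P := fun y f => y * f = f * y ∧ y ^ 3 = 1) hP ht1 g⁻¹
    rw [e] at h1 h2
    refine ⟨⟨_, h1, ?_⟩, _, h2, ?_⟩
    · calc g⁻¹ * s * g⁻¹⁻¹ * (g⁻¹ * s * g⁻¹⁻¹) = g⁻¹ * (s * s) * g⁻¹⁻¹ := by group
        _ = z := by rw [hs2, zc hM]
    · calc g⁻¹ * t * g⁻¹⁻¹ * (g⁻¹ * t * g⁻¹⁻¹) = g⁻¹ * (t * t) * g⁻¹⁻¹ := by group
        _ = f := by rw [ht2, e]
  four f hf hs := by
    obtain ⟨g, hg⟩ := sq_conj hM hf hs
    obtain ⟨x, hx1, hx2⟩ := four_az hM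
    have hP : ∀ g y f : X, (y * f = f * y ∧ y * y = 1) →
        (g * y * g⁻¹ * (g * f * g⁻¹) = g * f * g⁻¹ * (g * y * g⁻¹) ∧ (g * y * g⁻¹) * (g * y * g⁻¹) = 1) := by
      rintro g y f ⟨h1, h2⟩
      refine ⟨?_, ?_⟩
      · calc g * y * g⁻¹ * (g * f * g⁻¹) = g * (y * f) * g⁻¹ := by group
          _ = g * f * g⁻¹ * (g * y * g⁻¹) := by rw [h1]; group
      · calc g * y * g⁻¹ * (g * y * g⁻¹) = g * (y * y) * g⁻¹ := by group
          _ = 1 := by rw [h2]; group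
    have e : g⁻¹ * (a * z) * g⁻¹⁻¹ = f := by rw [← hg]; group
    have h1 := closure_conj (P := fun y f => y * f = f * y ∧ y * y = 1) hP hx1 g⁻¹
    rw [e] at h1
    refine ⟨_, h1, ?_⟩
    rw [conj_pow, hx2, e]
  not_four x := not_four hM x
  solv f hf Y hY hYf := solv hM hf hY hYf
  v_conj k m hk hm := by
    obtain ⟨g, rfl⟩ := root_conj hM hk
    obtain ⟨l, rfl⟩ := root_conj hM hm
    exact ⟨l * g⁻¹, by group⟩
  v_perf k hk := by
    obtain ⟨g, rfl⟩ := root_conj hM hk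
    obtain ⟨Y, hY, hYk, x, hx, hx1, hxx⟩ := v_perf0 hM
    refine ⟨Y.map (MulAut.conj g).toMonoidHom, ?_, ?_, g * x * g⁻¹, ⟨x, hx, rfl⟩, ?_, ?_⟩
    · unfold Perf
      rw [← Subgroup.map_commutator, hY]
    · rintro _ ⟨y, hy, rfl⟩
      have h1 := hYk y hy
      show g * y * g⁻¹ * (g * k0 a b z * g⁻¹) = g * k0 a b z * g⁻¹ * (g * y * g⁻¹)
      calc g * y * g⁻¹ * (g * k0 a b z * g⁻¹) = g * (y * k0 a b z) * g⁻¹ := by group
        _ = _ := by rw [h1]; group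
    · intro h
      apply hx1
      calc x = g⁻¹ * (g * x * g⁻¹) * g := by group
        _ = 1 := by rw [h]; group
    · calc g * x * g⁻¹ * (g * x * g⁻¹) = g * (x * x) * g⁻¹ := by group
        _ = 1 := by rw [hxx]; group
  o_perf α hα h2 := o_perf hM hα h2
  o_conj α hα h2 m hm := o_conj hM hα h2 hm

end Cfsg.Agent.OddHalf.D9.TwoM12M
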