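import Cfsg.Agent.OddHalf.D9.TwoM12M.Explicit

/-!
# 2.M12: the outer involutions
-/

set_option autoImplicit false
set_option maxRecDepth 100000

open Subgroup

namespace Cfsg.Agent.OddHalf.D9.TwoM12M

open Cfsg.Agent.OddHalf.D9.ExTrick (Perf)
open Cfsg.Agent.CoThreeStd.MTwelve (H wd wd_nil wd_cons inv_class card_cent_v)
open Cfsg.Agent.GH.MTwBound Cfsg.Agent.GH.MTwModel Cfsg.Agent.GH.MTwSyl Cfsg.Agent.GH.MTwFacts
  Cfsg.Agent.GH.MTwCover Cfsg.Agent.GH.MTwPsi Cfsg.Agent.GH.MTwCenter Cfsg.Agent.GH.MTwAut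
open Cfsg.Agent.GH.MTwCode (Pm app)

/-- `H ∪ H w` -/
def dbl {P : Type*} [Group P] (H : Subgroup P) (w : P) (hw : w * w = 1) (hn : ∀ h ∈ H, w * h * w ∈ H) :
    Subgroup P where
  carrier := {x | x ∈ H ∨ x * w ∈ H}
  one_mem' := Or.inl (one_mem _)
  mul_mem' := by
    rintro x y (hx | hx) (hy | hy)
    · exact Or.inl (mul_mem hx hy)
    · right
      rw [mul_assoc]
      exact mul_mem hx hy
    · right
      have : x * y * w = (x * w) * (w * y * w) := by
        calc x * y * w = x * 1 * y * w := by group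
          _ = x * (w * w) * y * w := by rw [hw]
          _ = (x * w) * (w * y * w) := by group
      rw [this]
      exact mul_mem hx (hn y hy)
    · left
      have : x * y = (x * w) * (w * (y * w) * w) := by
        calc x * y = x * 1 * y * 1 := by group
          _ = x * (w * w) * y * (w * w) := by rw [hw]
          _ = (x * w) * (w * (y * w) * w) := by group
      rw [this]
      exact mul_mem hx (hn _ hy)
  inv_mem' := by
    rintro x (hx | hx)
    · exact Or.inl (inv_mem hx)
    · right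
      have hw' : w⁻¹ = w := inv_eq_of_mul_eq_one_left hw
      have : x⁻¹ * w = w * (x * w)⁻¹ * w := by rw [mul_inv_rev, hw', ← mul_assoc, hw, one_mul]
      rw [this]
      exact hn _ (inv_mem hx)

theorem mem_dbl {P : Type*} [Group P] {H : Subgroup P} {w : P} {hw : w * w = 1} {hn : ∀ h ∈ H, w * h * w ∈ H}
    {x : P} : x ∈ dbl H w hw hn ↔ x ∈ H ∨ x * w ∈ H := Iff.rfl

theorem card_dbl {P : Type*} [Group P] [Finite P] {H : Subgroup P} {w : P} (hw : w * w = 1)
    (hn : ∀ h ∈ H, w * h * w ∈ H) (hwH : w ∉ H) : Nat.card ↥(dbl H w hw hn) = 2 * Nat.card ↥H := by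
  have hww : ∀ x : P, x * w * w = x := fun x => by rw [mul_assoc, hw, mul_one]
  let f : ↥H ⊕ ↥H → ↥(dbl H w hw hn) := Sum.elim (fun h => ⟨h, Or.inl h.2⟩)
    (fun h => ⟨h * w, Or.inr (by rw [hww]; exact h.2)⟩)
  have hf : Function.Bijective f := by
    constructor
    · rintro (x | x) (y | y) h
      · have h1 : (x : P) = y := congrArg (fun t : ↥(dbl H w hw hn) => (t : P)) h
        exact congrArg Sum.inl (Subtype.ext h1)
      · exfalso
        have h1 : (x : P) = y * w := congrArg Subtype.val h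
        apply hwH
        have : w = (y : P)⁻¹ * x := by rw [h1, inv_mul_cancel_left]
        rw [this]
        exact mul_mem (inv_mem y.2) x.2
      · exfalso
        have h1 : (x : P) * w = y := congrArg Subtype.val h
        apply hwH
        have : w = (x : P)⁻¹ * y := by rw [← h1, inv_mul_cancel_left]
        rw [this]
        exact mul_mem (inv_mem x.2) y.2
      · have h1 : (x : P) * w = y * w := congrArg Subtype.val h
        exact congrArg Sum.inr (Subtype.ext (mul_right_cancel h1))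
    · rintro ⟨x, hx | hx⟩
      · exact ⟨Sum.inl ⟨x, hx⟩, rfl⟩
      · exact ⟨Sum.inr ⟨x * w, hx⟩, Subtype.ext (hww x)⟩
  rw [← Nat.card_congr (Equiv.ofBijective f hf), Nat.card_sum, two_mul]

theorem orbit_of_code {c : ℕ} (h : ((List.range 48).all fun i => (Nat.ble (i + 1) 24) == (Nat.ble (app c i + 1) 24)) = true)
    {m : Pm} (hm : Cfsg.Agent.GH.MTwCode.code m = c) (i : Fin 48) : i.1 < 24 ↔ (m i).1 < 24 := by
  have h1 := List.all_eq_true.mp h i (by simp)
  rw [beq_iff_eq] at h1
  have h2 : app c i = m i := by rw [← hm, Cfsg.Agent.GH.MTwCode.app_code]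
  rw [h2] at h1
  have e : ∀ n : ℕ, n < 24 ↔ Nat.ble (n + 1) 24 = true := fun n => by rw [Nat.ble_eq]; omega
  rw [e, e, h1]

/-- `M` leaves the first 24 points invariant -/
theorem M_orbit {m : Pm} (hm : m ∈ M) (i : Fin 48) : i.1 < 24 ↔ (m i).1 < 24 := by
  have key : M ≤ { carrier := {m : Pm | ∀ i : Fin 48, i.1 < 24 ↔ (m i).1 < 24}
                   one_mem' := fun i => Iff.rfl
                   mul_mem' := fun {m n} hm hn i => (hn i).trans (hm (n i))
                   inv_mem' := fun {m} hm i => by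
                    have h1 := hm (m⁻¹ i)
                    have h2 : m (m⁻¹ i) = i := m.apply_symm_apply i
                    rw [h2] at h1
                    exact h1.symm : Subgroup Pm } := by
    show closure {A, B} ≤ _
    rw [closure_le]
    rintro x (rfl | rfl)
    · exact orbit_of_code (by decide +kernel) code_A
    · exact orbit_of_code (by decide +kernel) code_B
  exact key hm i

theorem W_not_mem : W ∉ M := by
  intro h
  have h1 := (M_orbit h 0).mp (by decide)
  have h2 : (W 0).1 = app cW 0 := by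
    rw [← code_W, ← Cfsg.Agent.GH.MTwCode.app_code]
    rfl
  rw [h2] at h1
  have h3 : Nat.ble (app cW 0 + 1) 24 = false := by decide +kernel
  have h4 : Nat.ble (app cW 0 + 1) 24 = true := by rw [Nat.ble_eq]; exact h1
  rw [h3] at h4
  exact absurd h4 (by simp)

variable {X : Type*} [Group X] {π : X →* H} {z : X} {ψ : X →* Pm} {a b : X}

theorem T_le_M (hM : Model π z ψ a b) : T ≤ M := by rw [← hM.range]; exact T_le hM

/-- `M⟨W⟩` -/
noncomputable def Mh : Subgroup Pm := dbl M W W_sq fun _ h => W_mem_M h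

/-- `T⟨W⟩` -/
noncomputable def Th : Subgroup Pm := dbl T W W_sq fun _ h => tau_mem h

theorem Th_le (hM : Model π z ψ a b) : Th ≤ Mh := by
  rintro x (hx | hx)
  · exact Or.inl (T_le_M hM hx)
  · exact Or.inr (T_le_M hM hx)

theorem card_Mh (hM : Model π z ψ a b) : Nat.card ↥Mh = 380160 := by
  have h1 : Nat.card ↥M = 190080 := by
    rw [← hM.range, ← Cov.card hM.cov]
    exact (Nat.card_congr (MonoidHom.ofInjective hM.inj).toEquiv).symm
  rw [Mh, card_dbl _ _ W_not_mem, h1]

theorem card_Th (hM : Model π z ψ a b) : Nat.card ↥Th = 256 := by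
  rw [Th, card_dbl _ _ fun h => W_not_mem (T_le_M hM h), card_T]

theorem index_Th (hM : Model π z ψ a b) : (Th.subgroupOf Mh).index = 1485 := by
  have h1 := (Th.subgroupOf Mh).card_mul_index
  have h2 : Nat.card ↥(Th.subgroupOf Mh) = 256 := by
    rw [Nat.card_congr (subgroupOfEquivOfLe (Th_le hM)).toEquiv, card_Th hM]
  rw [h2, card_Mh hM] at h1
  omega

theorem W_mem_Th : W ∈ Th := Or.inr (by rw [W_sq]; exact one_mem _)

theorem W_inv : (W : Pm)⁻¹ = W := inv_eq_of_mul_eq_one_left W_sq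

/-- **The outer involutions are conjugate.** -/
theorem key (hM : Model π z ψ a b) {u : Pm} (hu : u * W ∈ M) (hu2 : u * u = 1 ∨ u * u = Z) :
    ∃ v ∈ M, u = v * W * v⁻¹ := by
  haveI : Fact (Nat.Prime 2) := ⟨Nat.prime_two⟩
  have hWW : ∀ x : Pm, x * W * W = x := fun x => by rw [mul_assoc, W_sq, mul_one]
  have huM : u ∉ M := by
    intro h
    apply W_not_mem
    have : W = u⁻¹ * (u * W) := by rw [inv_mul_cancel_left]
    rw [this]
    exact mul_mem (inv_mem h) hu
  have hZm : ∀ m ∈ M, m * Z * m⁻¹ = Z := by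
    intro m hm
    rw [← hM.range] at hm
    obtain ⟨x, rfl⟩ := hm
    rw [← hM.ψz, ← map_inv, ← map_mul, ← map_mul, ← hM.cov.comm, mul_inv_cancel_right]
  have hZ2 : Z * Z = 1 := by rw [← hM.ψz, ← map_mul, hM.cov.hz, map_one]
  have hu4 : u ^ 2 ^ 2 = 1 := by
    have : u ^ 2 ^ 2 = (u * u) * (u * u) := by rw [← pow_two, ← pow_two, ← pow_mul]; norm_num
    rw [this]
    rcases hu2 with h | h <;> rw [h]
    · rw [mul_one]
    · exact hZ2
  have huMh : u ∈ Mh := Or.inr hu
  -- conjugate into `T⟨W⟩`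
  obtain ⟨m, hm, hmu⟩ : ∃ m ∈ M, m * u * m⁻¹ ∈ Th := by
    have hidx : ¬ 2 ∣ (Th.subgroupOf Mh).index := by rw [index_Th hM]; norm_num
    have hp : IsPGroup 2 ↥(Th.subgroupOf Mh) := IsPGroup.of_card (n := 8) (by
      rw [Nat.card_congr (subgroupOfEquivOfLe (Th_le hM)).toEquiv, card_Th hM]; norm_num)
    let S : Sylow 2 ↥Mh := hp.toSylow hidx
    have hu' : (⟨u, huMh⟩ : ↥Mh) ^ 2 ^ 2 = 1 := Subtype.ext hu4
    obtain ⟨Q, hQ⟩ := (isPGroup_zpowers hu').exists_le_sylow
    obtain ⟨g, hg⟩ := MulAction.exists_smul_eq ↥Mh Q S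
    have h1 : g * ⟨u, huMh⟩ * g⁻¹ ∈ (S : Subgroup ↥Mh) := by
      rw [← hg]
      exact smul_mem_pointwise_smul _ (MulAut.conj g) _ (hQ (mem_zpowers _))
    have h2 : (g : Pm) * u * (g : Pm)⁻¹ ∈ Th := h1
    rcases g.2 with hgM | hgM
    · exact ⟨g, hgM, h2⟩
    · refine ⟨W * g, ?_, ?_⟩
      · have h3 := W_mem_M hgM
        have h4 : W * ((g : Pm) * W) * W = W * g := by rw [← mul_assoc, hWW]
        rwa [h4] at h3
      · have h3 : W * (g : Pm) * u * (W * (g : Pm))⁻¹ = W * ((g : Pm) * u * (g : Pm)⁻¹) * W := by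
          rw [mul_inv_rev, W_inv]
          group
        rw [h3]
        exact mul_mem (mul_mem W_mem_Th h2) W_mem_Th
  set t' := m * u * m⁻¹ with ht'
  have ht2 : t' * t' = m * (u * u) * m⁻¹ := by rw [ht']; group
  rcases hmu with h | h
  · exfalso
    apply huM
    have : u = m⁻¹ * t' * m := by rw [ht']; group
    rw [this]
    exact mul_mem (mul_mem (inv_mem hm) (T_le_M hM h)) hm
  · set t := t' * W with ht
    have h1 : t * (W * t * W) = t' * t' := by
      calc t * (W * t * W) = t' * (W * W) * t' * (W * W) := by rw [ht]; group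
        _ = t' * t' := by rw [W_sq, mul_one, mul_one]
    have h2 : t * (W * t * W) = 1 := by
      rw [h1, ht2]
      rcases hu2 with h3 | h3
      · rw [h3, mul_one, mul_inv_cancel]
      · exfalso
        apply outer_ne_Z h
        rw [h1, ht2, h3]
        exact hZm m hm
    obtain ⟨y, hy, hyt⟩ := outer_one h h2
    refine ⟨m⁻¹ * y, mul_mem (inv_mem hm) (T_le_M hM hy), ?_⟩
    have h3 : t = y * (W * y * W)⁻¹ := by rw [eq_mul_inv_iff_mul_eq]; exact hyt
    have h4 : t' = y * W * y⁻¹ := by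
      calc t' = t * W := (hWW t').symm
        _ = y * (W * y * W)⁻¹ * W := by rw [h3]
        _ = y * W⁻¹ * y⁻¹ * W⁻¹ * W := by group
        _ = y * W * y⁻¹ := by rw [W_inv, hWW]
    calc u = m⁻¹ * t' * m := by rw [ht']; group
      _ = (m⁻¹ * y) * W * (m⁻¹ * y)⁻¹ := by rw [h4]; group

end Cfsg.Agent.OddHalf.D9.TwoM12M
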