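import Cfsg.Agent.OddHalf.D9.TwoM12M.Facts

/-!
# D9, row `2.M12`: complete
-/

set_option autoImplicit false

open Subgroup

namespace Cfsg.Agent.OddHalf.D9.TwoM12M

open Cfsg.Agent.CoThreeStd.MTwelve (H)
open Cfsg.Agent.GH.MTwCover Cfsg.Agent.GH.MTwPsi

universe u

/-- a perfect group with centre of order 2 and central quotient `M12` -/
theorem facts (L : Type u) [Group L] (hperf : commutator L = ⊤) (hcard : Nat.card ↥(center L) = 2)
    (hs : IsSimpleGroup (L ⧸ center L)) (he : Spor.IsoM12 (L ⧸ center L)) (c : L) (hc : c ∈ center L)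
    (hc1 : c ≠ 1) : M12Glue.KFacts L c := by
  obtain ⟨e⟩ := he
  haveI : IsSimpleGroup H := e.isSimpleGroup_congr.1 hs
  haveI : Finite ↥(center L) := Nat.finite_of_card_ne_zero (by rw [hcard]; norm_num)
  let π : L →* H := e.toMonoidHom.comp (QuotientGroup.mk' (center L))
  have hπ : ∀ x, π x = 1 ↔ x ∈ center L := by
    intro x
    show e (QuotientGroup.mk' (center L) x) = 1 ↔ _
    rw [MulEquiv.map_eq_one_iff, QuotientGroup.mk'_apply, QuotientGroup.eq_one_iff]
  have hor : ∀ x ∈ center L, x = 1 ∨ x = c := by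
    intro x hx
    by_contra hcon
    push Not at hcon
    have h1 : ({1, ⟨x, hx⟩, ⟨c, hc⟩} : Set ↥(center L)).ncard = 3 := by
      rw [Set.ncard_eq_three]
      refine ⟨1, ⟨x, hx⟩, ⟨c, hc⟩, ?_, ?_, ?_, rfl⟩
      · exact fun h => hcon.1 (congrArg Subtype.val h).symm
      · exact fun h => hc1 (congrArg Subtype.val h).symm
      · exact fun h => hcon.2 (congrArg Subtype.val h)
    have h2 := Set.ncard_le_card ({1, ⟨x, hx⟩, ⟨c, hc⟩} : Set ↥(center L))
    rw [h1, hcard] at h2
    omega
  have hC : Cov π c := {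
    surj := e.surjective.comp (QuotientGroup.mk'_surjective _)
    ker := fun x hx => hor x ((hπ x).mp hx)
    hz := by
      rcases hor (c * c) (mul_mem hc hc) with h | h
      · exact h
      · exact absurd (mul_eq_left.mp h) hc1
    hz1 := hc1
    hπz := (hπ c).mpr hc
    comm := fun x => (mem_center_iff.mp hc x).symm
    perfect := hperf }
  obtain ⟨ψ, a, b, hM⟩ := Cov.exists_model hC
  exact kfacts hM

/-- **D9, row `2.M12`.** -/
theorem row : Cut.Row.{u} (fun K _ => Cut.Two (fun X _ => Spor.IsoM12 X) K) := by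
  intro G _ C K S hc h
  haveI := C.fin
  haveI := C.simple
  obtain ⟨z, hz, hz1, A⟩ := Amb.exists_amb C S hc h.1
  exact M12Glue.kill C.na A (facts ↥K (Amb.commutator_eq_top S) h.1 S.simple h.2 _ hz hz1)

end Cfsg.Agent.OddHalf.D9.TwoM12M
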